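import Mathlib

set_option autoImplicit false

namespace Cfsg.Agent.Lib.Helper86.Suz

variable {F : Type*} [Field F] [Fintype F] [CharP F 2]

omit [CharP F 2] in
/-- A4 -/
theorem frob_full (M : AddSubgroup (F →+ F))
    (hM : ∀ t : F, t ≠ 0 → ∀ f ∈ M, ∃ g ∈ M, ∀ u, g (t * u) = t * f u)
    (hfpf : ∀ t : F, t ≠ 0 → t ≠ 1 → ∀ f ∈ M, (∀ u, f (t * u) = t * f u) → f = 0)
    (h4 : ∃ t : F, t ≠ 0 ∧ t ≠ 1)
    (r : ℕ) (c : F) (hc : c ≠ 0) (g : F →+ F) (hg : g ∈ M) (hgc : ∀ u, g u = c * u ^ (2 ^ r)) :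
    (∃ u : F, u ^ (2 ^ r) ≠ u) ∧ ∀ c' : F, ∃ g' ∈ M, ∀ u, g' u = c' * u ^ (2 ^ r) := by
  have key : ∀ t : F, t ≠ 0 → t ≠ 1 → t ^ (2 ^ r) ≠ t := by
    intro t ht0 ht1 h
    have h0 := hfpf t ht0 ht1 g hg (fun u => by rw [hgc, hgc, mul_pow, h]; ring)
    have h1 := hgc 1
    rw [h0, one_pow, mul_one] at h1
    exact hc h1.symm
  refine ⟨?_, ?_⟩
  · obtain ⟨t, ht0, ht1⟩ := h4
    exact ⟨t, key t ht0 ht1⟩
  · intro c'
    by_cases hc' : c' = 0
    · exact ⟨0, M.zero_mem, fun u => by rw [hc', zero_mul]; rfl⟩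
    let χ : Fˣ →* Fˣ :=
      { toFun := fun t => t * (t ^ (2 ^ r))⁻¹
        map_one' := by simp
        map_mul' := fun a b => by rw [mul_pow, mul_inv]; exact mul_mul_mul_comm _ _ _ _ }
    have hχ : Function.Injective χ := by
      rw [injective_iff_map_eq_one]
      intro t ht
      have h1 : t = t ^ (2 ^ r) := mul_inv_eq_one.mp ht
      by_contra ht1
      apply key (t : F) t.ne_zero (fun h => ht1 (Units.ext h))
      have := congrArg (fun u : Fˣ => (u : F)) h1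
      simpa using this.symm
    obtain ⟨t, ht⟩ := (Finite.injective_iff_surjective.mp hχ) (Units.mk0 c' hc' * (Units.mk0 c hc)⁻¹)
    have ht' : (t : F) * ((t : F) ^ (2 ^ r))⁻¹ = c' * c⁻¹ := by
      have := congrArg (fun u : Fˣ => (u : F)) ht
      simpa [χ] using this
    obtain ⟨g', hg', h⟩ := hM (t : F) t.ne_zero g hg
    refine ⟨g', hg', fun u => ?_⟩
    have h1 := h ((t : F)⁻¹ * u)
    rw [mul_inv_cancel_left₀ t.ne_zero, hgc, mul_pow, inv_pow] at h1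
    rw [h1]
    calc (t : F) * (c * (((t : F) ^ 2 ^ r)⁻¹ * u ^ 2 ^ r))
        = ((t : F) * ((t : F) ^ (2 ^ r))⁻¹) * c * u ^ 2 ^ r := by ring
      _ = c' * u ^ 2 ^ r := by rw [ht']; field_simp

end Cfsg.Agent.Lib.Helper86.Suz
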