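import Mathlib

set_option autoImplicit false

namespace Cfsg.Agent.Lib.Helper86.Suz

variable {F : Type*} [Field F] [Fintype F] [CharP F 2]

omit [CharP F 2] in
theorem exists_orderOf_eq (n : ℕ) (hn : Fintype.card F = 2 ^ n) : ∃ w : Fˣ, orderOf w = 2 ^ n - 1 := by
  classical
  obtain ⟨w, hw⟩ := IsCyclic.exists_generator (α := Fˣ)
  refine ⟨w, ?_⟩
  rw [orderOf_eq_card_of_forall_mem_zpowers hw, Nat.card_eq_fintype_card, Fintype.card_units, hn]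

omit [CharP F 2] in
theorem frob_exp_eq (n : ℕ) (hn : Fintype.card F = 2 ^ n) (r j : ℕ) (hr0 : 0 < r) (hr : r < n)
    (hj : j ≤ n) (h : ∀ b : F, b ^ (2 ^ r) = b ^ (2 ^ j)) : r = j := by
  obtain ⟨w, hw⟩ := exists_orderOf_eq n hn
  have h1 : w ^ (2 ^ r) = w ^ (2 ^ j) := Units.ext (by simpa using h (w : F))
  have h2 := pow_eq_pow_iff_modEq.mp h1
  rw [hw] at h2
  have hn2 : 2 ≤ n := by omega
  have hlt : ∀ i, i < n → 2 ^ i < 2 ^ n - 1 := by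
    intro i hi
    have h3 : 2 ^ i ≤ 2 ^ (n - 1) := Nat.pow_le_pow_right (by norm_num) (by omega)
    have h4 : 2 ^ n = 2 * 2 ^ (n - 1) := by
      rw [← pow_succ']; congr 1; omega
    have h5 : 2 ≤ 2 ^ (n - 1) := by
      calc 2 = 2 ^ 1 := by norm_num
        _ ≤ 2 ^ (n - 1) := Nat.pow_le_pow_right (by norm_num) (by omega)
    omega
  rcases Nat.lt_or_ge j n with hjn | hjn
  · have := Nat.ModEq.eq_of_lt_of_lt h2 (hlt r hr) (hlt j hjn)
    exact Nat.pow_right_injective (le_refl 2) this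
  · have hjn' : j = n := le_antisymm hj hjn
    exfalso
    rw [hjn'] at h2
    have h3 : 2 ^ n ≡ 1 [MOD 2 ^ n - 1] := by
      have hpos : 1 ≤ 2 ^ n := Nat.one_le_two_pow
      have : 2 ^ n = (2 ^ n - 1) + 1 := by omega
      calc 2 ^ n = (2 ^ n - 1) + 1 := this
        _ ≡ 0 + 1 [MOD 2 ^ n - 1] := Nat.ModEq.add_right 1 (by simp [Nat.ModEq])
        _ = 1 := by norm_num
    have h4 := h2.trans h3
    have h5 : 1 < 2 ^ n - 1 := lt_of_le_of_lt Nat.one_le_two_pow (hlt 0 (by omega))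
    have h6 := Nat.ModEq.eq_of_lt_of_lt h4 (hlt r hr) h5
    have h7 : 2 ^ r = 2 ^ 0 := by rw [h6, pow_zero]
    have := Nat.pow_right_injective (le_refl 2) h7
    omega

theorem half (n : ℕ) (hn : Fintype.card F = 2 ^ n) (r s : ℕ) (hr0 : 0 < r) (hr : r < n) (hs : s < n)
    (a : F) (g : F → F) (hadd : ∀ b b', g (b + b') = g b + g b')
    (h : ∀ b, a * g b ^ (2 ^ r) = b * g b ^ (2 ^ s)) (hne : ∃ b, g b ≠ 0) : r = s + 1 := by
  have hfact : Fact (Nat.Prime 2) := ⟨Nat.prime_two⟩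
  have hcross : ∀ b₁ b₂, b₁ * g b₂ ^ (2 ^ s) = b₂ * g b₁ ^ (2 ^ s) := by
    intro b₁ b₂
    have e := h (b₁ + b₂)
    rw [hadd, add_pow_char_pow, add_pow_char_pow, mul_add, h b₁, h b₂] at e
    have e2 : b₁ * g b₂ ^ (2 ^ s) + b₂ * g b₁ ^ (2 ^ s) = 0 := by
      have : (b₁ + b₂) * (g b₁ ^ 2 ^ s + g b₂ ^ 2 ^ s)
          = (b₁ * g b₁ ^ 2 ^ s + b₂ * g b₂ ^ 2 ^ s) + (b₁ * g b₂ ^ (2 ^ s) + b₂ * g b₁ ^ (2 ^ s)) := by
        ring
      rw [this] at e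
      exact (left_eq_add.mp e)
    exact CharTwo.add_eq_zero.mp e2
  have hk : ∀ b, g b ^ (2 ^ s) = b * g 1 ^ (2 ^ s) := by
    intro b
    have := hcross 1 b
    rwa [one_mul] at this
  have hk0 : g 1 ^ (2 ^ s) ≠ 0 := by
    obtain ⟨b, hb⟩ := hne
    intro h0
    have := hk b
    rw [h0, mul_zero] at this
    exact hb (pow_eq_zero_iff (by positivity) |>.mp this)
  generalize g 1 ^ (2 ^ s) = κ at hk hk0
  have hmain : ∀ b, a ^ (2 ^ s) * κ ^ (2 ^ r) * b ^ (2 ^ r) = κ ^ (2 ^ s) * b ^ (2 ^ (s + 1)) := by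
    intro b
    have e := congrArg (fun x => x ^ (2 ^ s)) (h b)
    simp only [mul_pow] at e
    rw [← pow_mul, mul_comm (2 ^ r) (2 ^ s), pow_mul, hk b] at e
    rw [mul_pow, mul_pow] at e
    rw [pow_succ, pow_mul]
    calc a ^ (2 ^ s) * κ ^ (2 ^ r) * b ^ (2 ^ r) = a ^ 2 ^ s * (b ^ 2 ^ r * κ ^ 2 ^ r) := by ring
      _ = b ^ 2 ^ s * (b ^ 2 ^ s * κ ^ 2 ^ s) := e
      _ = κ ^ (2 ^ s) * (b ^ (2 ^ s)) ^ 2 := by ring
  have h1 := hmain 1
  simp only [one_pow, mul_one] at h1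
  have hm0 : κ ^ (2 ^ s) ≠ 0 := pow_ne_zero _ hk0
  apply frob_exp_eq n hn r (s + 1) hr0 hr (by omega)
  intro b
  have := hmain b
  rw [h1] at this
  exact mul_left_cancel₀ hm0 this

/-- A5 -/
theorem no_bilinear (n : ℕ) (hn : Fintype.card F = 2 ^ n) (r s : ℕ) (hr0 : 0 < r) (hr : r < n)
    (hs0 : 0 < s) (hs : s < n) (hrs : r ≠ s) (β : F → F → F)
    (h1 : ∀ a a' b, β (a + a') b = β a b + β a' b) (h2 : ∀ a b b', β a (b + b') = β a b + β a b')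
    (h : ∀ a b, a * β a b ^ (2 ^ r) = b * β a b ^ (2 ^ s)) : ∀ a b, β a b = 0 := by
  intro a b
  by_contra hne
  have e1 := half n hn r s hr0 hr hs a (β a) (h2 a) (h a) ⟨b, hne⟩
  have e2 := half n hn s r hs0 hs hr b (fun x => β x b) (fun x y => h1 x y b)
    (fun x => (h x b).symm) ⟨a, hne⟩
  omega

end Cfsg.Agent.Lib.Helper86.Suz
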