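import Cfsg.Agent.Lib.Helper72.SuzA1
import Cfsg.Agent.Lib.Helper72.SuzA3
import Cfsg.Agent.Lib.Helper86.Suz.A4
import Cfsg.Agent.Lib.Helper86.Suz.A5

set_option autoImplicit false

namespace Cfsg.Agent.Lib.Helper86.Suz

variable {F : Type*} [Field F] [Fintype F] [CharP F 2]

section
variable {P : Type*} [Group P] (f : P → (F →+ F)) (H1 : ∀ x y, f (x * y) = f x + f y)

include H1 in
omit [Fintype F] [CharP F 2] in
theorem hom_one : f 1 = 0 := by
  have := H1 1 1
  rw [mul_one] at this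
  exact left_eq_add.mp this

include H1 in
omit [Fintype F] [CharP F 2] in
theorem hom_inv (x : P) : f x⁻¹ = - f x := by
  have := H1 x x⁻¹
  rw [mul_inv_cancel, hom_one f H1] at this
  exact (neg_eq_of_add_eq_zero_right this.symm).symm

/-- the range of `f` -/
def rangeM : AddSubgroup (F →+ F) where
  carrier := Set.range f
  zero_mem' := ⟨1, hom_one f H1⟩
  add_mem' := by
    rintro _ _ ⟨x, rfl⟩ ⟨y, rfl⟩
    exact ⟨x * y, H1 x y⟩
  neg_mem' := by
    rintro _ ⟨x, rfl⟩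
    exact ⟨x⁻¹, hom_inv f H1 x⟩

omit [Fintype F] [CharP F 2] in
theorem mem_rangeM {g : F →+ F} : g ∈ rangeM f H1 ↔ ∃ x, f x = g := Iff.rfl

include H1 in
theorem pure_decomp (n : ℕ) (hn : Fintype.card F = 2 ^ n)
    (H2 : ∀ t : F, t ≠ 0 → ∀ x, ∃ x', ∀ u, f x' (t * u) = t * f x u) (x : P) :
    ∃ c : ℕ → F, (∀ u, f x u = ∑ r ∈ Finset.range n, c r * u ^ (2 ^ r)) ∧
      ∀ r < n, ∃ y, ∀ u, f y u = c r * u ^ (2 ^ r) := by
  obtain ⟨c, hc⟩ := Helper72.Suz.exists_frob_coeff n hn (f x)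
  refine ⟨c, hc, fun r hr => ?_⟩
  obtain ⟨g, ⟨y, rfl⟩, hg⟩ := Helper72.Suz.frob_component_mem n hn (rangeM f H1)
    (by
      rintro t ht _ ⟨x, rfl⟩
      obtain ⟨x', hx'⟩ := H2 t ht x
      exact ⟨f x', ⟨x', rfl⟩, hx'⟩) (f x) ⟨x, rfl⟩ c hc r hr
  exact ⟨y, hg⟩

include H1 in
omit [CharP F 2] in
theorem pure_full (h4 : ∃ t : F, t ≠ 0 ∧ t ≠ 1)
    (H2 : ∀ t : F, t ≠ 0 → ∀ x, ∃ x', ∀ u, f x' (t * u) = t * f x u)
    (H3 : ∀ t : F, t ≠ 0 → t ≠ 1 → ∀ x, (∀ u, f x (t * u) = t * f x u) → f x = 0)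
    (r : ℕ) (c : F) (hc : c ≠ 0) (y : P) (hy : ∀ u, f y u = c * u ^ (2 ^ r)) :
    r ≠ 0 ∧ ∀ c' : F, ∃ y', ∀ u, f y' u = c' * u ^ (2 ^ r) := by
  obtain ⟨⟨u, hu⟩, h⟩ := frob_full (rangeM f H1)
    (by
      rintro t ht _ ⟨x, rfl⟩
      obtain ⟨x', hx'⟩ := H2 t ht x
      exact ⟨f x', ⟨x', rfl⟩, hx'⟩)
    (by
      rintro t ht ht1 _ ⟨x, rfl⟩ hx
      exact H3 t ht ht1 x hx) h4 r c hc (f y) ⟨y, rfl⟩ hy
  refine ⟨?_, fun c' => ?_⟩
  · rintro rfl
    exact hu (by rw [pow_zero, pow_one])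
  · obtain ⟨_, ⟨y', rfl⟩, hy'⟩ := h c'
    exact ⟨y', hy'⟩

omit [Fintype F] [CharP F 2] in
theorem injective_of_pure (r : ℕ) (c : F) (hc : c ≠ 0) (y : P) (hy : ∀ u, f y u = c * u ^ (2 ^ r)) :
    Function.Injective (f y) := by
  rw [injective_iff_map_eq_zero]
  intro u hu
  rw [hy] at hu
  rcases mul_eq_zero.mp hu with h | h
  · exact absurd h hc
  · exact (pow_eq_zero_iff (by positivity)).mp h

include H1 in
theorem exists_pure (n : ℕ) (hn : Fintype.card F = 2 ^ n)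
    (H2 : ∀ t : F, t ≠ 0 → ∀ x, ∃ x', ∀ u, f x' (t * u) = t * f x u)
    (H8 : ∃ x, f x ≠ 0) : ∃ r < n, ∃ c : F, c ≠ 0 ∧ ∃ y, ∀ u, f y u = c * u ^ (2 ^ r) := by
  obtain ⟨x, hx⟩ := H8
  obtain ⟨c, hc, hp⟩ := pure_decomp f H1 n hn H2 x
  by_contra hcon
  push Not at hcon
  apply hx
  ext u
  rw [hc, AddMonoidHom.zero_apply]
  apply Finset.sum_eq_zero
  intro r hr
  have hr' := Finset.mem_range.mp hr
  by_cases h0 : c r = 0
  · rw [h0, zero_mul]
  · obtain ⟨y, hy⟩ := hp r hr'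
    obtain ⟨u', hu'⟩ := hcon r hr' (c r) h0 y
    exact absurd (hy u') hu'

end

theorem exists_card_eq : ∃ n : ℕ, Fintype.card F = 2 ^ n := by
  obtain ⟨n, -, hn⟩ := FiniteField.card F 2
  exact ⟨n, hn⟩

/-- ALG1 -/
theorem exists_three_injective {P : Type*} [Group P] (f : P → (F →+ F))
    (h4 : ∃ t : F, t ≠ 0 ∧ t ≠ 1)
    (H1 : ∀ x y, f (x * y) = f x + f y)
    (H2 : ∀ t : F, t ≠ 0 → ∀ x, ∃ x', ∀ u, f x' (t * u) = t * f x u)
    (H3 : ∀ t : F, t ≠ 0 → t ≠ 1 → ∀ x, (∀ u, f x (t * u) = t * f x u) → f x = 0)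
    (H8 : ∃ x, f x ≠ 0) :
    ∃ x x', Function.Injective (f x) ∧ Function.Injective (f x') ∧
      Function.Injective (f (x * x')) := by
  obtain ⟨n, hn⟩ := exists_card_eq (F := F)
  obtain ⟨r, -, c, hc, y, hy⟩ := exists_pure f H1 n hn H2 H8
  obtain ⟨-, hfull⟩ := pure_full f H1 h4 H2 H3 r c hc y hy
  obtain ⟨t, ht0, ht1⟩ := h4
  obtain ⟨x, hx⟩ := hfull 1
  obtain ⟨x', hx'⟩ := hfull t
  refine ⟨x, x', injective_of_pure f r 1 one_ne_zero x hx, injective_of_pure f r t ht0 x' hx',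
    injective_of_pure f r (1 + t) ?_ (x * x') ?_⟩
  · intro h
    exact ht1 (CharTwo.add_eq_zero.mp h).symm
  · intro u
    rw [H1, AddMonoidHom.add_apply, hx, hx', add_mul]

/-- ALG2 -/
theorem false_of_pairing {P : Type*} [Group P] (f : P → (F →+ F)) (b : P → P → F)
    (h4 : ∃ t : F, t ≠ 0 ∧ t ≠ 1)
    (H1 : ∀ x y, f (x * y) = f x + f y)
    (H2 : ∀ t : F, t ≠ 0 → ∀ x, ∃ x', ∀ u, f x' (t * u) = t * f x u)
    (H3 : ∀ t : F, t ≠ 0 → t ≠ 1 → ∀ x, (∀ u, f x (t * u) = t * f x u) → f x = 0)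
    (H4 : ∀ x x' y, b (x * x') y = b x y + b x' y)
    (H4' : ∀ x y y', b x (y * y') = b x y + b x y')
    (H5 : ∀ x y, f x = 0 → b x y = 0)
    (H5' : ∀ x y, f y = 0 → b x y = 0)
    (H5'' : ∀ x, b x x = 0)
    (H6 : ∀ x y, Function.Injective (f x) → Function.Injective (f y) → f (x * y) (b x y) = 0)
    (H7 : ∀ x, Function.Injective (f x) → ∃ y, b x y ≠ 0)
    (H8 : ∃ x, f x ≠ 0) : False := by
  obtain ⟨n, hn⟩ := exists_card_eq (F := F)
  have congrR : ∀ x y y', f y = f y' → b x y = b x y' := by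
    intro x y y' h
    have h1 : f (y⁻¹ * y') = 0 := by rw [H1, hom_inv f H1, h, neg_add_cancel]
    have h2 := H4' x y (y⁻¹ * y')
    rw [mul_inv_cancel_left, H5' x _ h1, add_zero] at h2
    exact h2.symm
  have congrL : ∀ x x' y, f x = f x' → b x y = b x' y := by
    intro x x' y h
    have h1 : f (x⁻¹ * x') = 0 := by rw [H1, hom_inv f H1, h, neg_add_cancel]
    have h2 := H4 x (x⁻¹ * x') y
    rw [mul_inv_cancel_left, H5 _ y h1, add_zero] at h2
    exact h2.symm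
  obtain ⟨r, hr, c, hc, x, hx⟩ := exists_pure f H1 n hn H2 H8
  obtain ⟨hr0, hfullr⟩ := pure_full f H1 h4 H2 H3 r c hc x hx
  have hxinj := injective_of_pure f r c hc x hx
  obtain ⟨y, hy⟩ := H7 x hxinj
  obtain ⟨c', hc', hp⟩ := pure_decomp f H1 n hn H2 y
  -- some pure component of `y` pairs nontrivially with `x`
  have hex : ∃ s < n, ∃ ys, (∀ u, f ys u = c' s * u ^ (2 ^ s)) ∧ b x ys ≠ 0 := by
    by_contra hcon
    push Not at hcon
    have key : ∀ k ≤ n, ∃ z, (∀ u, f z u = ∑ s ∈ Finset.range k, c' s * u ^ (2 ^ s)) ∧ b x z = 0 := by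
      intro k
      induction k with
      | zero =>
        intro _
        refine ⟨1, fun u => ?_, H5' x 1 (hom_one f H1)⟩
        rw [hom_one f H1]; simp
      | succ k ih =>
        intro hk
        obtain ⟨z, hz, hbz⟩ := ih (by omega)
        obtain ⟨ys, hys⟩ := hp k (by omega)
        refine ⟨z * ys, fun u => ?_, ?_⟩
        · rw [H1, AddMonoidHom.add_apply, hz, hys, Finset.sum_range_succ]
        · rw [H4', hbz, hcon k (by omega) ys hys, add_zero]
    obtain ⟨z, hz, hbz⟩ := key n le_rfl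
    apply hy
    rw [congrR x y z (by ext u; rw [hc', hz]), hbz]
  obtain ⟨s, hs, ys, hys, hbys⟩ := hex
  have hcs : c' s ≠ 0 := by
    intro h0
    apply hbys
    apply H5'
    ext u
    rw [hys, h0, zero_mul]; rfl
  obtain ⟨hs0, hfulls⟩ := pure_full f H1 h4 H2 H3 s (c' s) hcs ys hys
  have hysinj := injective_of_pure f s (c' s) hcs ys hys
  have hrs : r ≠ s := by
    rintro rfl
    by_cases hcc : c = c' r
    · apply hbys
      rw [← congrR x x ys (by ext u; rw [hx, hys, hcc]), H5'']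
    · have hinj : Function.Injective (f (x * ys)) := by
        apply injective_of_pure f r (c + c' r) _ (x * ys)
        · intro u
          rw [H1, AddMonoidHom.add_apply, hx, hys, add_mul]
        · intro h
          exact hcc (CharTwo.add_eq_zero.mp h)
      have h6 := H6 x ys hxinj hysinj
      exact hbys (hinj (by rw [h6, map_zero]))
  choose X hX using hfullr
  choose Y hY using hfulls
  have hβ := no_bilinear n hn r s (Nat.pos_of_ne_zero hr0) hr (Nat.pos_of_ne_zero hs0) hs hrs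
    (fun a a' => b (X a) (Y a'))
    (by
      intro a a' d
      change b (X (a + a')) (Y d) = b (X a) (Y d) + b (X a') (Y d)
      rw [← H4]
      apply congrL
      ext u
      rw [H1, AddMonoidHom.add_apply, hX, hX, hX, add_mul])
    (by
      intro a d d'
      change b (X a) (Y (d + d')) = b (X a) (Y d) + b (X a) (Y d')
      rw [← H4']
      apply congrR
      ext u
      rw [H1, AddMonoidHom.add_apply, hY, hY, hY, add_mul])
    (by
      intro a d
      change a * b (X a) (Y d) ^ (2 ^ r) = d * b (X a) (Y d) ^ (2 ^ s)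
      by_cases ha : a = 0
      · have : b (X a) (Y d) = 0 := by
          apply H5
          ext u
          rw [hX, ha, zero_mul]; rfl
        rw [this, zero_pow (by positivity), zero_pow (by positivity), mul_zero, mul_zero]
      by_cases hd : d = 0
      · have : b (X a) (Y d) = 0 := by
          apply H5'
          ext u
          rw [hY, hd, zero_mul]; rfl
        rw [this, zero_pow (by positivity), zero_pow (by positivity), mul_zero, mul_zero]
      have h6 := H6 (X a) (Y d) (injective_of_pure f r a ha _ (hX a))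
        (injective_of_pure f s d hd _ (hY d))
      rw [H1, AddMonoidHom.add_apply, hX, hY] at h6
      exact CharTwo.add_eq_zero.mp h6)
    c (c' s)
  apply hbys
  rw [congrL x (X c) ys (by ext u; rw [hx, hX]), congrR (X c) ys (Y (c' s)) (by ext u; rw [hys, hY])]
  exact hβ

end Cfsg.Agent.Lib.Helper86.Suz
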