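import Mathlib
import Cfsg.Agent.Lib.Helper36.SuzReg

/-!
Suzuki 2-groups: definitions shared by the rungs of the ladder SUZ2.
`Z = {z | z * z = 1}` is the centre; `InA a` says that `a Z` lies in `Omega_1 (Z (P / Z))`.
-/

set_option autoImplicit false

namespace Cfsg.Agent.Lib.Helper86.Suz

open Cfsg.Agent.Lib.Helper36

universe u

/-- `a * a` and all commutators `cm a x` are involutions or trivial -/
def InA {P : Type*} [Group P] (a : P) : Prop :=
  (a * a) * (a * a) = 1 ∧ ∀ x : P, cm a x * cm a x = 1

theorem InA.map {P : Type*} [Group P] {a : P} (h : InA a) (k : MulAut P) : InA (k a) := by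
  refine ⟨by rw [← map_mul, ← map_mul, h.1, map_one], fun x => ?_⟩
  have h1 := h.2 (k⁻¹ x)
  have h2 := congrArg k h1
  rwa [map_mul, map_cm, MulAut.apply_inv_self, map_one] at h2

theorem mul_comm_cm {P : Type*} [Group P] (b a : P) : b * a = a * b * cm b a := by
  unfold cm; group

variable {P : Type u} [Group P] {K : Subgroup (MulAut P)}

theorem InA.mul (h : RegAct P K) {a b : P} (ha : InA a) (hb : InA b) : InA (a * b) := by
  have hc : ∀ {z : P}, z * z = 1 → ∀ y, z * y = y * z := fun hz y => h.inv_central hz y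
  constructor
  · have e1 : a * b * (a * b) = (a * a) * (b * b) * cm b a := by
      calc a * b * (a * b) = a * (b * a) * b := by group
        _ = a * (a * b * cm b a) * b := by rw [← mul_comm_cm]
        _ = a * a * b * (cm b a * b) := by group
        _ = a * a * b * (b * cm b a) := by rw [hc (hb.2 a) b]
        _ = (a * a) * (b * b) * cm b a := by group
    rw [e1]
    have c1 := hc ha.1
    have c2 := hc hb.1
    have c3 := hc (hb.2 a)
    calc (a * a) * (b * b) * cm b a * ((a * a) * (b * b) * cm b a)
        = (a * a) * ((b * b) * (cm b a * (a * a))) * ((b * b) * cm b a) := by group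
      _ = (a * a) * ((b * b) * ((a * a) * cm b a)) * ((b * b) * cm b a) := by rw [c3 (a * a)]
      _ = (a * a) * ((b * b) * (a * a)) * (cm b a * (b * b)) * cm b a := by group
      _ = (a * a) * ((a * a) * (b * b)) * ((b * b) * cm b a) * cm b a := by
          rw [c2 (a * a), c3 (b * b)]
      _ = ((a * a) * (a * a)) * ((b * b) * (b * b)) * (cm b a * cm b a) := by group
      _ = 1 := by rw [ha.1, hb.1, hb.2 a]; group
  · intro x
    rw [cm_mul_left (hc (ha.2 x))]
    have c1 := hc (ha.2 x)
    calc cm a x * cm b x * (cm a x * cm b x)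
        = cm a x * (cm b x * cm a x) * cm b x := by group
      _ = cm a x * (cm a x * cm b x) * cm b x := by rw [← c1 (cm b x)]
      _ = (cm a x * cm a x) * (cm b x * cm b x) := by group
      _ = 1 := by rw [ha.2 x, hb.2 x]; group

theorem InA.one : InA (1 : P) := by
  refine ⟨by group, fun x => ?_⟩
  unfold cm; group

theorem InA.inv (h : RegAct P K) {a : P} (ha : InA a) : InA a⁻¹ := by
  have hc : ∀ {z : P}, z * z = 1 → ∀ y, z * y = y * z := fun hz y => h.inv_central hz y
  constructor
  · have : a⁻¹ * a⁻¹ * (a⁻¹ * a⁻¹) = ((a * a) * (a * a))⁻¹ := by group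
    rw [this, ha.1, inv_one]
  · intro x
    have h1 : cm (a * a⁻¹) x = cm a x * cm a⁻¹ x := cm_mul_left (hc (ha.2 x))
    have h2 : cm (a * a⁻¹) x = 1 := by unfold cm; group
    have h3 : cm a⁻¹ x = (cm a x)⁻¹ := by
      rw [h2] at h1
      exact (inv_eq_of_mul_eq_one_right h1.symm).symm
    rw [h3, ← mul_inv_rev, ha.2 x, inv_one]

/-- the preimage of `Omega_1 (Z (P / Z))` -/
def secondCenter (h : RegAct P K) : Subgroup P where
  carrier := {a | InA a}
  one_mem' := InA.one
  mul_mem' := fun ha hb => InA.mul h ha hb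
  inv_mem' := fun ha => InA.inv h ha

theorem mem_secondCenter (h : RegAct P K) {a : P} : a ∈ secondCenter h ↔ InA a := Iff.rfl

/-- The coordinate data in the case where `A` (= `secondCenter`) is abelian. -/
structure SData (P : Type*) [Group P] (F : Type*) [Field F] where
  e : F → P
  s : P → F
  f : P → (F →+ F)
  e_add : ∀ a b, e (a + b) = e a * e b
  e_inj : Function.Injective e
  e_range : ∀ x : P, x * x = 1 ↔ ∃ a, e a = x
  e_cen : ∀ a x, e a * x = x * e a
  A_comm : ∀ a b : P, InA a → InA b → a * b = b * a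
  s_spec : ∀ a : P, InA a → e (s a) = a * a
  s_surj : ∀ u, ∃ a : P, InA a ∧ s a = u
  f_spec : ∀ a : P, InA a → ∀ x, cm a x = e (f x (s a))

end Cfsg.Agent.Lib.Helper86.Suz
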