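import Cfsg.Agent.Lib.Helper86.Suz.Defs

set_option autoImplicit false

namespace Cfsg.Agent.Lib.Helper86.Suz

open Cfsg.Agent.Lib.Helper36

universe u
variable {P : Type u} [Group P] {K : Subgroup (MulAut P)}

theorem cm_pow_sq (h : RegAct P K) {w : P} (hw : ∀ x : P, cm w x * cm w x = 1) (k : ℕ) :
    ∀ x : P, cm (w ^ k) x * cm (w ^ k) x = 1 := by
  have hc : ∀ {z : P}, z * z = 1 → ∀ y, z * y = y * z := fun hz y => h.inv_central hz y
  induction k with
  | zero => intro x; rw [pow_zero]; exact InA.one.2 x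
  | succ k ih =>
    intro x
    rw [pow_succ', cm_mul_left (hc (hw x))]
    have c1 := hc (hw x)
    calc cm w x * cm (w ^ k) x * (cm w x * cm (w ^ k) x)
        = cm w x * (cm (w ^ k) x * cm w x) * cm (w ^ k) x := by group
      _ = cm w x * (cm w x * cm (w ^ k) x) * cm (w ^ k) x := by rw [← c1 (cm (w ^ k) x)]
      _ = (cm w x * cm w x) * (cm (w ^ k) x * cm (w ^ k) x) := by group
      _ = 1 := by rw [hw x, ih x]; group

/-- GA -/
theorem exists_inA_of_normal (h : RegAct P K) (N : Subgroup P) (hN : N.Normal)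
    (hNZ : ∃ w ∈ N, w * w ≠ 1) : ∃ w ∈ N, InA w ∧ w * w ≠ 1 := by
  classical
  have := h.fin
  have hfact : Fact (Nat.Prime 2) := ⟨Nat.prime_two⟩
  have hnil : Group.IsNilpotent P := h.two.isNilpotent
  obtain ⟨c, hc⟩ := hnil.nilpotent
  have hex : ∃ i, ∃ w ∈ N, w ∈ Subgroup.upperCentralSeries P i ∧ w * w ≠ 1 := by
    obtain ⟨w, hw, hw2⟩ := hNZ
    exact ⟨c, w, hw, by rw [hc]; trivial, hw2⟩
  obtain ⟨w, hwN, hwi, hw2⟩ := Nat.find_spec hex
  have hmin := fun j (hj : j < Nat.find hex) => Nat.find_min hex hj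
  generalize Nat.find hex = i at hwi hmin
  have hcm : ∀ x : P, cm w x * cm w x = 1 := by
    intro x
    cases i with
    | zero =>
      rw [Subgroup.upperCentralSeries_zero, Subgroup.mem_bot] at hwi
      rw [hwi] at hw2
      exact absurd (mul_one 1) hw2
    | succ i =>
      by_contra hne
      apply hmin i (Nat.lt_succ_self i)
      refine ⟨cm w x, ?_, ?_, hne⟩
      · have : cm w x = w⁻¹ * (x⁻¹ * w * x⁻¹⁻¹) := by unfold cm; group
        rw [this]
        exact N.mul_mem (N.inv_mem hwN) (hN.conj_mem w hwN x⁻¹)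
      · have h1 := Subgroup.mem_upperCentralSeries_succ_iff.mp
          ((Subgroup.upperCentralSeries P (i + 1)).inv_mem hwi) x⁻¹
        have : cm w x = w⁻¹ * x⁻¹ * w⁻¹⁻¹ * x⁻¹⁻¹ := by unfold cm; group
        rw [this]; exact h1
  obtain ⟨n, hn⟩ := h.pow2 (w * w)
  obtain ⟨m, hm1, hm2⟩ := exists_pow_involution n _ hn hw2
  have hww : w ^ (2 ^ m) * w ^ (2 ^ m) = (w * w) ^ (2 ^ m) := ((Commute.refl w).mul_pow _).symm
  refine ⟨w ^ (2 ^ m), N.pow_mem hwN _, ⟨?_, cm_pow_sq h hcm _⟩, ?_⟩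
  · rw [hww]; exact hm2
  · rw [hww]; exact hm1

end Cfsg.Agent.Lib.Helper86.Suz
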