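import Cfsg.Agent.Lib.Helper86.Suz.Defs

set_option autoImplicit false

namespace Cfsg.Agent.Lib.Helper86.Suz

open Cfsg.Agent.Lib.Helper36

universe u
variable {P : Type u} [Group P] {K : Subgroup (MulAut P)}

/-- restriction of an automorphism to an invariant subgroup -/
def resAut (H : Subgroup P) (k : MulAut P) (h1 : ∀ x ∈ H, k x ∈ H) (h2 : ∀ x ∈ H, k⁻¹ x ∈ H) :
    MulAut H where
  toFun x := ⟨k x, h1 x x.2⟩
  invFun x := ⟨k⁻¹ x, h2 x x.2⟩
  left_inv x := Subtype.ext (by simp)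
  right_inv x := Subtype.ext (by simp)
  map_mul' x y := Subtype.ext (by simp)

/-- the group induced by `K` on an invariant subgroup -/
def resGroup (K : Subgroup (MulAut P)) (H : Subgroup P) : Subgroup (MulAut H) where
  carrier := {φ | ∃ k ∈ K, ∀ x : H, ((φ x : H) : P) = k x}
  one_mem' := ⟨1, K.one_mem, fun _ => rfl⟩
  mul_mem' := by
    rintro φ ψ ⟨k, hk, h1⟩ ⟨l, hl, h2⟩
    exact ⟨k * l, K.mul_mem hk hl, fun x => by
      rw [MulAut.mul_apply, h1, h2, MulAut.mul_apply]⟩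
  inv_mem' := by
    rintro φ ⟨k, hk, h1⟩
    refine ⟨k⁻¹, K.inv_mem hk, fun x => ?_⟩
    have := h1 (φ⁻¹ x)
    rw [MulAut.apply_inv_self] at this
    rw [this, MulAut.inv_apply_self]

theorem regAct_res (h : RegAct P K) (H : Subgroup P) (hK : ∀ k ∈ K, ∀ x ∈ H, k x ∈ H) :
    RegAct ↥H (resGroup K H) := by
  have := h.fin
  refine ⟨inferInstance, h.two.to_subgroup H, ?_, ?_⟩
  · rintro φ ⟨k, hk, h1⟩ ψ ⟨l, hl, h2⟩
    ext x
    rw [MulAut.mul_apply, MulAut.mul_apply, h1, h2, h2, h1]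
    exact congrArg (fun u : MulAut P => u (x : P)) (h.comm k hk l hl)
  · intro x y hx hx' hy hy'
    obtain ⟨k, hk, hkx⟩ := h.tr (x : P) (y : P) (fun h0 => hx (Subtype.ext h0))
      (congrArg Subtype.val hx') (fun h0 => hy (Subtype.ext h0)) (congrArg Subtype.val hy')
    refine ⟨resAut H k (hK k hk) (hK k⁻¹ (K.inv_mem hk)), ⟨k, hk, fun _ => rfl⟩, ?_⟩
    exact Subtype.ext hkx

/-- GB -/
theorem sq_eq_one_of_central_in (h : RegAct P K) (H : Subgroup P) (hK : ∀ k ∈ K, ∀ x ∈ H, k x ∈ H)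
    (hna : ∃ x ∈ H, ∃ y ∈ H, x * y ≠ y * x) (z : P) (hz : z ∈ H) (hzc : ∀ y ∈ H, z * y = y * z) :
    z * z = 1 := by
  obtain ⟨x, hx, y, hy, hxy⟩ := hna
  have h1 := (regAct_res h H hK).center_sq
    ⟨⟨x, hx⟩, ⟨y, hy⟩, fun h0 => hxy (congrArg Subtype.val h0)⟩ ⟨z, hz⟩
    (Subgroup.mem_center_iff.mpr (fun g => Subtype.ext (hzc g g.2).symm))
  exact congrArg Subtype.val h1

end Cfsg.Agent.Lib.Helper86.Suz
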