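import Mathlib

set_option autoImplicit false

namespace Cfsg.Agent.Lib.Helper86.Suz

/-- GC -/
theorem mem_of_fpf {P : Type*} [Group P] [Finite P] (k : MulAut P) (hk : ∀ x, k x = x → x = 1)
    (C : Subgroup P) (hC : ∀ x ∈ C, k x ∈ C) (x : P) (hx : x⁻¹ * k x ∈ C) : x ∈ C := by
  have hinj : ∀ c d : P, c⁻¹ * k c = d⁻¹ * k d → c = d := by
    intro c d h
    have h1 : k (d * c⁻¹) = d * c⁻¹ := by
      rw [map_mul, map_inv]
      calc k d * (k c)⁻¹ = d * (d⁻¹ * k d) * (k c)⁻¹ := by group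
        _ = d * (c⁻¹ * k c) * (k c)⁻¹ := by rw [h]
        _ = d * c⁻¹ := by group
    have h2 := hk _ h1
    exact (mul_inv_eq_one.mp h2).symm
  let φ : C → C := fun c => ⟨(c : P)⁻¹ * k c, C.mul_mem (C.inv_mem c.2) (hC c c.2)⟩
  have hφ : Function.Injective φ := by
    intro c d h
    exact Subtype.ext (hinj c d (congrArg Subtype.val h))
  obtain ⟨c, hc⟩ := (Finite.injective_iff_surjective.mp hφ) ⟨_, hx⟩
  have := hinj c x (congrArg Subtype.val hc)
  rw [← this]; exact c.2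

end Cfsg.Agent.Lib.Helper86.Suz
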