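import Cfsg.Agent.Lib.Helper86.Suz.GA
import Cfsg.Agent.Lib.Helper86.Suz.GB

set_option autoImplicit false

namespace Cfsg.Agent.Lib.Helper86.Suz

open Cfsg.Agent.Lib.Helper36

universe u
variable {P : Type u} [Group P] {K : Subgroup (MulAut P)}

theorem secondCenter_normal (h : RegAct P K) : (secondCenter h).Normal := by
  constructor
  intro a ha g
  exact InA.map ha (MulAut.conj g)

/-- GD -/
theorem sq_of_nonabelian (h : RegAct P K) (hna : ∃ a b : P, InA a ∧ InA b ∧ a * b ≠ b * a) :
    ∀ x : P, (x * x) * (x * x) = 1 := by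
  obtain ⟨a, b, ha, hb, hab⟩ := hna
  have hAn := secondCenter_normal h
  have hCn : (Subgroup.centralizer (secondCenter h : Set P)).Normal := inferInstance
  have hC : ∀ w ∈ Subgroup.centralizer (secondCenter h : Set P), w * w = 1 := by
    by_contra hcon
    push Not at hcon
    obtain ⟨w, hwC, hwA, hw2⟩ := exists_inA_of_normal h _ hCn hcon
    apply hw2
    apply sq_eq_one_of_central_in h (secondCenter h) (fun k _ x hx => InA.map hx k)
      ⟨a, ha, b, hb, hab⟩ w hwA
    intro y hy
    exact ((Subgroup.mem_centralizer_iff.mp hwC) y hy).symm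
  intro x
  apply hC
  rw [Subgroup.mem_centralizer_iff]
  intro c hc
  have hcA : InA c := hc
  have h1 : cm c (x * x) = cm c x * cm c x :=
    cm_mul_right (fun y => h.inv_central (hcA.2 x) y)
  rw [hcA.2 x] at h1
  exact cm_eq_one.mp h1

end Cfsg.Agent.Lib.Helper86.Suz
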