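import Cfsg.Agent.Lib.Helper86.Suz.SD
import Cfsg.Agent.Lib.Helper86.Suz.GA
import Cfsg.Agent.Lib.Helper86.Suz.GC

set_option autoImplicit false

namespace Cfsg.Agent.Lib.Helper86.Suz

open Cfsg.Agent.Lib.Helper36

universe u
variable {P : Type u} [Group P] {K : Subgroup (MulAut P)}

/-- GE1 -/
theorem exists_sdata (h : RegAct P K) (hfree : ∀ k ∈ K, ∀ x : P, x ≠ 1 → k x = x → k = 1)
    (hna : ∃ x y : P, x * y ≠ y * x)
    (h2 : ∃ x y : P, x ≠ y ∧ x ≠ 1 ∧ x * x = 1 ∧ y ≠ 1 ∧ y * y = 1)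
    (hab : ∀ a b : P, InA a → InA b → a * b = b * a) :
    ∃ (F : Type) (_ : Field F) (_ : Fintype F) (_ : CharP F 2) (D : SData P F),
      (∃ t : F, t ≠ 0 ∧ t ≠ 1) ∧
      (∀ t : F, t ≠ 0 → ∀ x, ∃ x', ∀ u, D.f x' (t * u) = t * D.f x u) ∧
      (∀ t : F, t ≠ 0 → t ≠ 1 → ∀ x, (∀ u, D.f x (t * u) = t * D.f x u) → D.f x = 0) := by
  classical
  have := h.fin
  obtain ⟨x₀, y₀, hxy, hx1, hx2, hy1, hy2⟩ := h2
  obtain ⟨F, iF, iFin, iC, e, he1, headd, heinj, herange, hK1, hK2⟩ := h.coords x₀ hx1 hx2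
  have he0 : e 0 = 1 := by
    have := headd 0 0
    rw [add_zero] at this
    exact mul_eq_left.mp this.symm
  have hcen : ∀ {z : P}, z * z = 1 → ∀ y, z * y = y * z := fun hz y => h.inv_central hz y
  let ε : P → F := Function.invFun e
  have hε : ∀ a, ε (e a) = a := Function.leftInverse_invFun heinj
  have heε : ∀ z : P, z * z = 1 → e (ε z) = z := by
    intro z hz
    obtain ⟨a, rfl⟩ := (herange z).mp hz
    rw [hε]
  let s : P → F := fun a => ε (a * a)
  have hs : ∀ a : P, InA a → e (s a) = a * a := fun a ha => heε _ ha.1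
  have hsK : ∀ (k : MulAut P) (t : F), (∀ a, k (e a) = e (t * a)) → ∀ a : P, InA a →
      s (k a) = t * s a := by
    intro k t hk a ha
    apply heinj
    rw [hs _ (InA.map ha k), ← hk, hs a ha, map_mul]
  have hsmul : ∀ a b : P, InA a → InA b → s (a * b) = s a + s b := by
    intro a b ha hb
    apply heinj
    rw [headd, hs _ (InA.mul h ha hb), hs a ha, hs b hb]
    calc a * b * (a * b) = a * (b * a) * b := by group
      _ = a * (a * b) * b := by rw [hab b a hb ha]
      _ = a * a * (b * b) := by group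
  -- an element of `A` outside `Z`
  have hexw : ∃ w ∈ (⊤ : Subgroup P), w * w ≠ 1 := by
    by_contra hcon
    push Not at hcon
    obtain ⟨x, y, hxy'⟩ := hna
    exact hxy' (hcen (hcon x trivial) y)
  obtain ⟨a₀, -, ha₀, ha₀2⟩ := exists_inA_of_normal h ⊤ inferInstance hexw
  have hsa₀ : s a₀ ≠ 0 := by
    intro h0
    apply ha₀2
    rw [← hs a₀ ha₀, h0, he0]
  have hsurj : ∀ u : F, ∃ a : P, InA a ∧ s a = u := by
    intro u
    by_cases hu : u = 0
    · refine ⟨1, InA.one, ?_⟩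
      change ε (1 * 1) = u
      rw [mul_one, ← he0, hε, hu]
    · obtain ⟨k, -, hk⟩ := hK2 (u * (s a₀)⁻¹) (mul_ne_zero hu (inv_ne_zero hsa₀))
      refine ⟨k a₀, InA.map ha₀ k, ?_⟩
      rw [hsK k _ hk a₀ ha₀, inv_mul_cancel_right₀ hsa₀]
  choose σ hσA hσs using hsurj
  have hcmcongr : ∀ a a' : P, InA a → InA a' → s a = s a' → ∀ x, cm a x = cm a' x := by
    intro a a' ha ha' hss x
    have hz : (a⁻¹ * a') * (a⁻¹ * a') = 1 := by
      have h1 := hsmul a⁻¹ a' (InA.inv h ha) ha'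
      have h2 := hsmul a⁻¹ a (InA.inv h ha) ha
      rw [← hss, ← h2, inv_mul_cancel] at h1
      have h3 := hs _ (InA.mul h (InA.inv h ha) ha')
      rw [h1] at h3
      have h4 := hs 1 InA.one
      rw [mul_one] at h4
      rw [← h3, h4]
    have h1 : a' = a * (a⁻¹ * a') := by group
    rw [h1, cm_mul_left (hcen (ha.2 x)), cm_eq_one.mpr (hcen hz x), mul_one]
  let f0 : P → F → F := fun x u => ε (cm (σ u) x)
  have hf0 : ∀ (a : P), InA a → ∀ x, cm a x = e (f0 x (s a)) := by
    intro a ha x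
    change cm a x = e (ε (cm (σ (s a)) x))
    rw [hcmcongr (σ (s a)) a (hσA _) ha (hσs _) x, heε _ (ha.2 x)]
  have hf0add : ∀ x u v, f0 x (u + v) = f0 x u + f0 x v := by
    intro x u v
    apply heinj
    have h1 := hf0 (σ u * σ v) (InA.mul h (hσA u) (hσA v)) x
    rw [hsmul _ _ (hσA u) (hσA v), hσs, hσs] at h1
    rw [← h1, headd, cm_mul_left (hcen ((hσA u).2 x))]
    have h2 := hf0 (σ u) (hσA u) x
    have h3 := hf0 (σ v) (hσA v) x
    rw [hσs] at h2 h3
    rw [h2, h3]
  let D : SData P F :=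
    { e := e
      s := s
      f := fun x => AddMonoidHom.mk' (f0 x) (hf0add x)
      e_add := headd
      e_inj := heinj
      e_range := herange
      e_cen := fun a x => hcen ((herange _).mpr ⟨a, rfl⟩) x
      A_comm := hab
      s_spec := hs
      s_surj := fun u => ⟨σ u, hσA u, hσs u⟩
      f_spec := hf0 }
  have hDf : ∀ x u, D.f x u = f0 x u := fun _ _ => rfl
  have hequiv : ∀ (k : MulAut P) (t : F), (∀ a, k (e a) = e (t * a)) → ∀ x u,
      D.f (k x) (t * u) = t * D.f x u := by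
    intro k t hk x u
    apply heinj
    have h1 := hf0 (k (σ u)) (InA.map (hσA u) k) (k x)
    rw [hsK k t hk _ (hσA u), hσs] at h1
    rw [hDf, ← h1, ← map_cm, hf0 (σ u) (hσA u) x, hσs, hk, hDf]
  refine ⟨F, iF, iFin, iC, D, ?_, ?_, ?_⟩
  · obtain ⟨t, ht⟩ := (herange y₀).mp hy2
    refine ⟨t, ?_, ?_⟩
    · rintro rfl
      exact hy1 (ht.symm.trans he0)
    · rintro rfl
      exact hxy (he1.symm.trans ht)
  · intro t ht x
    obtain ⟨k, -, hk⟩ := hK2 t ht
    exact ⟨k x, hequiv k t hk x⟩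
  · intro t ht ht1 x hx
    obtain ⟨k, hkK, hk⟩ := hK2 t ht
    have hk1 : k ≠ 1 := by
      rintro rfl
      have := hk 1
      rw [mul_one, MulAut.one_apply] at this
      exact ht1 (heinj this).symm
    have hfpf : ∀ y, k y = y → y = 1 := by
      intro y hy
      by_contra hy1'
      exact hk1 (hfree k hkK y hy1' hy)
    have hfk : D.f (k x) = D.f x := by
      ext v
      have h1 := hequiv k t hk x (t⁻¹ * v)
      rw [mul_inv_cancel_left₀ ht] at h1
      have h2 := hx (t⁻¹ * v)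
      rw [mul_inv_cancel_left₀ ht] at h2
      rw [h1, h2]
    have hmem : x⁻¹ * k x ∈ Subgroup.centralizer (secondCenter h : Set P) := by
      rw [Subgroup.mem_centralizer_iff]
      intro a ha
      have : D.f (x⁻¹ * k x) = 0 := by rw [D.f_mul, D.f_inv, hfk, neg_add_cancel]
      exact (D.f_eq_zero_iff _).mp this a ha
    have hxC := mem_of_fpf k hfpf (Subgroup.centralizer (secondCenter h : Set P))
      (by
        intro y hy
        rw [Subgroup.mem_centralizer_iff] at hy ⊢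
        intro a ha
        have h1 := hy (k⁻¹ a) (InA.map ha k⁻¹)
        have h2 := congrArg k h1
        rwa [map_mul, map_mul, MulAut.apply_inv_self] at h2) x hmem
    rw [D.f_eq_zero_iff]
    intro a ha
    exact (Subgroup.mem_centralizer_iff.mp hxC) a ha

end Cfsg.Agent.Lib.Helper86.Suz
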