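import Cfsg.Agent.Lib.Helper86.Suz.SD
import Cfsg.Agent.Lib.Helper86.Suz.Alg

set_option autoImplicit false

namespace Cfsg.Agent.Lib.Helper86.Suz

open Cfsg.Agent.Lib.Helper36

universe u
variable {P : Type u} [Group P] {K : Subgroup (MulAut P)}

/-- GE2 -/
theorem false_of_sdata (h : RegAct P K) (hna : ∃ x y : P, x * y ≠ y * x)
    {F : Type*} [Field F] [Fintype F] [CharP F 2] (D : SData P F)
    (h4 : ∃ t : F, t ≠ 0 ∧ t ≠ 1)
    (H2 : ∀ t : F, t ≠ 0 → ∀ x, ∃ x', ∀ u, D.f x' (t * u) = t * D.f x u)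
    (H3 : ∀ t : F, t ≠ 0 → t ≠ 1 → ∀ x, (∀ u, D.f x (t * u) = t * D.f x u) → D.f x = 0) :
    False := by
  have H8 : ∃ x, D.f x ≠ 0 := by
    by_contra hcon
    push Not at hcon
    obtain ⟨a, ha, hs⟩ := D.s_surj 1
    have hcen : a ∈ Subgroup.center P := by
      rw [Subgroup.mem_center_iff]
      intro g
      exact ((D.f_eq_zero_iff g).mp (hcon g) a ha).symm
    have h1 := h.center_sq hna a hcen
    have h2 := (D.s_eq_zero_iff ha).mpr h1
    rw [hs] at h2
    exact one_ne_zero h2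
  obtain ⟨x₁, x₂, i1, i2, i3⟩ := exists_three_injective D.f h4 D.f_mul H2 H3 H8
  have hCA : ∀ c, D.f c = 0 → InA c := fun c hc => D.inA_of_f_zero h i1 i2 i3 hc
  have hcmA : ∀ x y, InA (cm x y) := fun x y => hCA _ (D.f_cm x y)
  have hcminv : ∀ x y : P, cm y x = (cm x y)⁻¹ := by
    intro x y; unfold cm; group
  have hsymm : ∀ x y, D.s (cm y x) = D.s (cm x y) := by
    intro x y
    rw [hcminv x y, D.s_inv h (hcmA x y)]
  have H4 : ∀ x x' y, D.s (cm (x * x') y) = D.s (cm x y) + D.s (cm x' y) := by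
    intro x x' y
    have e1 : cm (x * x') y = (x'⁻¹ * cm x y * x') * cm x' y := by unfold cm; group
    have hc : InA (x'⁻¹ * cm x y * x') := by
      apply hCA
      rw [D.f_mul, D.f_mul, D.f_cm, D.f_inv]; abel
    rw [e1, D.s_mul h hc (hcmA x' y), D.s_conj h (hcmA x y)]
  have H4' : ∀ x y y', D.s (cm x (y * y')) = D.s (cm x y) + D.s (cm x y') := by
    intro x y y'
    rw [← hsymm, H4, hsymm, hsymm x y']
  have H5 : ∀ x y, D.f x = 0 → D.s (cm x y) = 0 := by
    intro x y hx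
    exact D.s_of_Z ((hCA x hx).2 y)
  have H5' : ∀ x y, D.f y = 0 → D.s (cm x y) = 0 := by
    intro x y hy
    rw [← hsymm]; exact H5 y x hy
  have H5'' : ∀ x : P, D.s (cm x x) = 0 := by
    intro x
    have : cm x x = 1 := by unfold cm; group
    rw [this]; exact D.s_of_Z D.Z.one_mem
  have H6 : ∀ x y, Function.Injective (D.f x) → Function.Injective (D.f y) →
      D.f (x * y) (D.s (cm x y)) = 0 := by
    intro x y hx hy
    have hx2 : x * x ∈ D.Z := D.sq_of_injective h hx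
    have hy2 : y * y ∈ D.Z := D.sq_of_injective h hy
    have hA : InA ((x * y) * (x * y)) := hCA _ (D.f_sq _)
    have hcomm : (x * y) * (x * y) * (x * y) = (x * y) * ((x * y) * (x * y)) := by group
    have h1 := D.f_spec _ hA (x * y)
    rw [cm_eq_one.mpr hcomm] at h1
    have h2 : D.f (x * y) (D.s ((x * y) * (x * y))) = 0 := D.e_eq_one.mp h1.symm
    have e1 : (x * y) * (x * y) = ((x * x) * (y * y)) * (y⁻¹ * cm y x * y) := by
      unfold cm; group
    have hc : InA (y⁻¹ * cm y x * y) := by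
      apply hCA
      rw [D.f_mul, D.f_mul, D.f_cm, D.f_inv]; abel
    have hz : (x * x) * (y * y) ∈ D.Z := D.Z.mul_mem hx2 hy2
    have e2 : D.s ((x * y) * (x * y)) = D.s (cm x y) := by
      rw [e1, D.s_mul h (D.inA_of_sq hz) hc, D.s_of_Z hz, zero_add, D.s_conj h (hcmA y x), hsymm]
    rw [e2] at h2
    exact h2
  have H7 : ∀ x, Function.Injective (D.f x) → ∃ y, D.s (cm x y) ≠ 0 := by
    intro x hx
    by_contra hcon
    push Not at hcon
    have hA : InA x := by
      refine ⟨D.sq_of_injective h hx, fun y => ?_⟩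
      exact (D.s_eq_zero_iff (hcmA x y)).mp (hcon y)
    have h0 := D.f_of_inA hA
    have h1 : D.f x 1 = D.f x 0 := by rw [h0]; rfl
    exact one_ne_zero (hx h1)
  exact false_of_pairing D.f (fun x y => D.s (cm x y)) h4 D.f_mul H2 H3 H4 H4' H5 H5' H5'' H6 H7 H8

end Cfsg.Agent.Lib.Helper86.Suz
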