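import Cfsg.Agent.Lib.Helper86.Suz.GD
import Cfsg.Agent.Lib.Helper86.Suz.GE1
import Cfsg.Agent.Lib.Helper86.Suz.GE2
import Cfsg.Agent.Lib.Helper36.SuzDef

set_option autoImplicit false

namespace Cfsg.Agent.Lib.Helper86.Suz

open Cfsg.Agent.Lib.Helper36

universe u
variable {P : Type u} [Group P] {K : Subgroup (MulAut P)}

/-- **Higman.** In a nonabelian finite 2-group with more than one involution and a commutative group of
automorphisms which is regular on the involutions, all squares are involutions (so central). -/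
theorem sq_sq (h : RegAct P K) (hfree : ∀ k ∈ K, ∀ x : P, x ≠ 1 → k x = x → k = 1)
    (hna : ∃ x y : P, x * y ≠ y * x)
    (h2 : ∃ x y : P, x ≠ y ∧ x ≠ 1 ∧ x * x = 1 ∧ y ≠ 1 ∧ y * y = 1) :
    ∀ x : P, (x * x) * (x * x) = 1 := by
  by_cases hab : ∀ a b : P, InA a → InA b → a * b = b * a
  · obtain ⟨F, _, _, _, D, h4, H2, H3⟩ := exists_sdata h hfree hna h2 hab
    exact (false_of_sdata h hna D h4 H2 H3).elim
  · push Not at hab
    obtain ⟨a, b, ha, hb, hab⟩ := hab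
    exact sq_of_nonabelian h ⟨a, b, ha, hb, hab⟩

theorem sq_sq_of_suzuki (hP : Cfsg.IsSuzukiTwoGroup P) : ∀ x : P, (x * x) * (x * x) = 1 := by
  obtain ⟨hfin, h2, hna, htwo, K, hK, hreg⟩ := hP
  have hR : RegAct P K := by
    refine ⟨hfin, h2, ?_, ?_⟩
    · intro k hk k' hk'
      let _ := IsCyclic.commGroup (α := K)
      exact congrArg Subtype.val (mul_comm (⟨k, hk⟩ : K) ⟨k', hk'⟩)
    · intro x y hx hx' hy hy'
      obtain ⟨k, hk, -⟩ := hreg x y hx hx' hy hy'
      exact ⟨k.1, k.2, hk⟩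
  refine sq_sq hR ?_ hna htwo
  intro k hk x hx hkx
  obtain ⟨n, hn⟩ := hR.pow2 x
  obtain ⟨m, hm1, hm2⟩ := exists_pow_involution n x hn hx
  obtain ⟨k0, -, huniq⟩ := hreg _ _ hm1 hm2 hm1 hm2
  have e1 := huniq ⟨k, hk⟩ (by change k (x ^ 2 ^ m) = x ^ 2 ^ m; rw [map_pow, hkx])
  have e2 := huniq 1 rfl
  have := e1.trans e2.symm
  exact congrArg Subtype.val this

end Cfsg.Agent.Lib.Helper86.Suz
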