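import Cfsg.Agent.Lib.Helper86.Suz.Defs

set_option autoImplicit false

namespace Cfsg.Agent.Lib.Helper86.Suz

open Cfsg.Agent.Lib.Helper36

universe u
variable {P : Type u} [Group P] {K : Subgroup (MulAut P)}

namespace SData

variable {F : Type*} [Field F] (D : SData P F)

theorem e_zero : D.e 0 = 1 := by
  have := D.e_add 0 0
  rw [add_zero] at this
  exact (mul_eq_left.mp this.symm)

theorem e_eq_one {a : F} : D.e a = 1 ↔ a = 0 :=
  ⟨fun h => D.e_inj (h.trans D.e_zero.symm), fun h => by rw [h, D.e_zero]⟩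

theorem e_sq (a : F) : D.e a * D.e a = 1 := (D.e_range _).mpr ⟨a, rfl⟩

include D in
theorem cen {z : P} (hz : z * z = 1) (x : P) : z * x = x * z := by
  obtain ⟨a, rfl⟩ := (D.e_range z).mp hz
  exact D.e_cen a x

theorem f_mul (x y : P) : D.f (x * y) = D.f x + D.f y := by
  ext u
  obtain ⟨a, ha, rfl⟩ := D.s_surj u
  apply D.e_inj
  rw [AddMonoidHom.add_apply, D.e_add, ← D.f_spec a ha, ← D.f_spec a ha, ← D.f_spec a ha]
  exact cm_mul_right (fun y => by rw [D.f_spec a ha]; exact D.e_cen _ _)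

theorem f_one : D.f 1 = 0 := by
  have := D.f_mul 1 1
  rw [mul_one] at this
  exact (left_eq_add.mp this)

theorem f_inv (x : P) : D.f x⁻¹ = - D.f x := by
  have := D.f_mul x x⁻¹
  rw [mul_inv_cancel, D.f_one] at this
  exact (neg_eq_of_add_eq_zero_right this.symm).symm

theorem f_eq_zero_iff (x : P) : D.f x = 0 ↔ ∀ a : P, InA a → a * x = x * a := by
  constructor
  · intro h a ha
    have := D.f_spec a ha x
    rw [h, AddMonoidHom.zero_apply, D.e_zero] at this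
    exact cm_eq_one.mp this
  · intro h
    ext u
    obtain ⟨a, ha, rfl⟩ := D.s_surj u
    apply D.e_inj
    rw [← D.f_spec a ha, AddMonoidHom.zero_apply, D.e_zero]
    exact cm_eq_one.mpr (h a ha)

theorem f_of_inA {x : P} (hx : InA x) : D.f x = 0 :=
  (D.f_eq_zero_iff x).mpr (fun a ha => D.A_comm a x ha hx)

theorem s_eq_zero_iff {a : P} (ha : InA a) : D.s a = 0 ↔ a * a = 1 := by
  rw [← D.e_eq_one, D.s_spec a ha]

theorem s_mul (h : RegAct P K) {a b : P} (ha : InA a) (hb : InA b) :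
    D.s (a * b) = D.s a + D.s b := by
  apply D.e_inj
  rw [D.e_add, D.s_spec _ (InA.mul h ha hb), D.s_spec a ha, D.s_spec b hb]
  calc a * b * (a * b) = a * (b * a) * b := by group
    _ = a * (a * b) * b := by rw [D.A_comm b a hb ha]
    _ = a * a * (b * b) := by group

include D in
theorem inA_of_sq {z : P} (hz : z * z = 1) : InA z := by
  refine ⟨by rw [hz, mul_one], fun x => ?_⟩
  have : cm z x = 1 := cm_eq_one.mpr (D.cen hz x)
  rw [this, mul_one]

/-- an element of `C_P(A)` whose square is in `Z` lies in `A` -/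
theorem inA_of_cent (h : RegAct P K) {c : P} (hc : D.f c = 0) (hc2 : (c * c) * (c * c) = 1) :
    InA c := by
  obtain ⟨u, hu⟩ := (D.e_range _).mp hc2
  obtain ⟨a, ha, rfl⟩ := D.s_surj u
  rw [D.s_spec a ha] at hu
  have hac : a * c = c * a := (D.f_eq_zero_iff c).mp hc a ha
  have h1 : (c * a⁻¹) * (c * a⁻¹) = 1 := by
    have hac' : a⁻¹ * c = c * a⁻¹ := by
      calc a⁻¹ * c = a⁻¹ * (c * a) * a⁻¹ := by group
        _ = a⁻¹ * (a * c) * a⁻¹ := by rw [hac]
        _ = c * a⁻¹ := by group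
    calc (c * a⁻¹) * (c * a⁻¹) = c * (a⁻¹ * c) * a⁻¹ := by group
      _ = c * (c * a⁻¹) * a⁻¹ := by rw [hac']
      _ = (c * c) * (a * a)⁻¹ := by group
      _ = 1 := by rw [hu, mul_inv_cancel]
  have h2 : c = (c * a⁻¹) * a := by group
  rw [h2]
  exact InA.mul h (D.inA_of_sq h1) ha

/-- the subgroup `Z` -/
def Z : Subgroup P where
  carrier := {z | z * z = 1}
  one_mem' := mul_one 1
  mul_mem' := by
    intro a b ha hb
    have ha' : a * a = 1 := ha
    have hb' : b * b = 1 := hb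
    change a * b * (a * b) = 1
    rw [mul_assoc, ← mul_assoc b a b, ← D.cen ha' b, mul_assoc, hb', mul_one, ha']
  inv_mem' := by
    intro a ha
    have ha' : a * a = 1 := ha
    change a⁻¹ * a⁻¹ = 1
    rw [← mul_inv_rev, ha', inv_one]

theorem mem_Z {z : P} : z ∈ D.Z ↔ z * z = 1 := Iff.rfl

theorem Z_cen {z : P} (hz : z ∈ D.Z) (x : P) : z * x = x * z := D.cen hz x

theorem f_pow (x : P) (k : ℕ) : D.f (x ^ k) = k • D.f x := by
  induction k with
  | zero => rw [pow_zero, zero_smul, D.f_one]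
  | succ k ih => rw [pow_succ, D.f_mul, ih, succ_nsmul]

theorem f_sq [CharP F 2] (x : P) : D.f (x * x) = 0 := by
  rw [D.f_mul]
  ext u
  exact CharTwo.add_self_eq_zero _

/-- E1 -/
theorem sq_of_injective [CharP F 2] (h : RegAct P K) {x : P} (hx : Function.Injective (D.f x)) :
    (x * x) * (x * x) = 1 := by
  by_contra hne
  obtain ⟨n, hn⟩ := h.pow2 ((x * x) * (x * x))
  obtain ⟨m, hm1, hm2⟩ := exists_pow_involution n _ hn hne
  have hww : (x * x) ^ (2 ^ m) * (x * x) ^ (2 ^ m) = ((x * x) * (x * x)) ^ (2 ^ m) :=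
    ((Commute.refl (x * x)).mul_pow _).symm
  have hfw : D.f ((x * x) ^ (2 ^ m)) = 0 := by rw [D.f_pow, D.f_sq, smul_zero]
  have hA : InA ((x * x) ^ (2 ^ m)) := D.inA_of_cent h hfw (by rw [hww]; exact hm2)
  have hcomm : (x * x) ^ (2 ^ m) * x = x * (x * x) ^ (2 ^ m) := by
    have : Commute (x * x) x := (Commute.refl x).mul_left (Commute.refl x)
    exact (this.pow_left _).eq
  have h1 := D.f_spec _ hA x
  rw [cm_eq_one.mpr hcomm] at h1
  have h2 : D.f x (D.s ((x * x) ^ (2 ^ m))) = 0 := D.e_eq_one.mp h1.symm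
  have h3 : D.s ((x * x) ^ (2 ^ m)) = 0 := hx (by rw [h2, map_zero])
  have h4 := (D.s_eq_zero_iff hA).mp h3
  rw [hww] at h4
  exact hm1 h4

theorem conj_mul_mem [CharP F 2] (h : RegAct P K) {x c : P} (hx : Function.Injective (D.f x))
    (hc : D.f c = 0) : x⁻¹ * c * x * c ∈ D.Z := by
  have h1 : (x * x) ∈ D.Z := D.sq_of_injective h hx
  have h2 : (x * c) * (x * c) ∈ D.Z := by
    apply D.sq_of_injective h
    rw [D.f_mul, hc, add_zero]; exact hx
  have : x⁻¹ * c * x * c = (x * x)⁻¹ * ((x * c) * (x * c)) := by group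
  rw [this]
  exact D.Z.mul_mem (D.Z.inv_mem h1) h2

/-- E2 -/
theorem inA_of_f_zero [CharP F 2] (h : RegAct P K) {x₁ x₂ : P} (h1 : Function.Injective (D.f x₁))
    (h2 : Function.Injective (D.f x₂)) (h3 : Function.Injective (D.f (x₁ * x₂))) {c : P}
    (hc : D.f c = 0) : InA c := by
  apply D.inA_of_cent h hc
  have u1 := D.conj_mul_mem h h1 hc
  have u2 := D.conj_mul_mem h h2 hc
  have u3 := D.conj_mul_mem h h3 hc
  generalize hu1 : x₁⁻¹ * c * x₁ * c = a1 at u1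
  generalize hu2 : x₂⁻¹ * c * x₂ * c = a2 at u2
  have e1 : x₁⁻¹ * c * x₁ = a1 * c⁻¹ := by rw [← hu1]; group
  have e2 : x₂⁻¹ * c⁻¹ * x₂ = c * a2⁻¹ := by rw [← hu2]; group
  have e3 : (x₁ * x₂)⁻¹ * c * (x₁ * x₂) * c = a1 * a2⁻¹ * (c * c) := by
    calc (x₁ * x₂)⁻¹ * c * (x₁ * x₂) * c = x₂⁻¹ * (x₁⁻¹ * c * x₁) * x₂ * c := by group
      _ = x₂⁻¹ * (a1 * c⁻¹) * x₂ * c := by rw [e1]
      _ = (x₂⁻¹ * a1) * c⁻¹ * x₂ * c := by group
      _ = (a1 * x₂⁻¹) * c⁻¹ * x₂ * c := by rw [D.Z_cen u1]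
      _ = a1 * (x₂⁻¹ * c⁻¹ * x₂) * c := by group
      _ = a1 * (c * a2⁻¹) * c := by rw [e2]
      _ = a1 * (a2⁻¹ * c) * c := by rw [D.Z_cen (D.Z.inv_mem u2)]
      _ = a1 * a2⁻¹ * (c * c) := by group
  rw [e3] at u3
  have : c * c = (a1 * a2⁻¹)⁻¹ * (a1 * a2⁻¹ * (c * c)) := by group
  have h5 : c * c ∈ D.Z := by
    rw [this]
    exact D.Z.mul_mem (D.Z.inv_mem (D.Z.mul_mem u1 (D.Z.inv_mem u2))) u3
  exact h5

theorem f_cm (x y : P) : D.f (cm x y) = 0 := by
  unfold cm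
  rw [D.f_mul, D.f_mul, D.f_mul, D.f_inv, D.f_inv]
  abel

theorem s_of_Z {z : P} (hz : z ∈ D.Z) : D.s z = 0 :=
  (D.s_eq_zero_iff (D.inA_of_sq hz)).mpr hz

theorem s_conj (h : RegAct P K) {a : P} (ha : InA a) (y : P) : D.s (y⁻¹ * a * y) = D.s a := by
  have h1 : y⁻¹ * a * y = a * cm a y := by unfold cm; group
  have h2 : cm a y ∈ D.Z := ha.2 y
  rw [h1, D.s_mul h ha (D.inA_of_sq h2), D.s_of_Z h2, add_zero]

theorem s_inv [CharP F 2] (h : RegAct P K) {a : P} (ha : InA a) : D.s a⁻¹ = D.s a := by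
  have h1 := D.s_mul h ha (InA.inv h ha)
  rw [mul_inv_cancel, D.s_of_Z D.Z.one_mem] at h1
  exact (CharTwo.add_eq_zero.mp h1.symm).symm

end SData

end Cfsg.Agent.Lib.Helper86.Suz
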